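import Cfsg.Agent.H620.RIM.Nb
import Cfsg.Agent.H620.RIM.Mult
import Cfsg.Agent.H243.RIM.Cent
import Cfsg.Agent.H715.Fpr.MathData

/-!
# S4816: `NBall 5`, `NBall 7` for `M22` (helper483)

The classes `1, 5A, 7A, 7B, 11A, 11B` are good.
-/

set_option autoImplicit false
set_option linter.unusedSectionVars false

namespace Cfsg.Agent.H483.RIM

open Cfsg Subgroup
open Cfsg.Agent.H665.RIM Cfsg.Agent.H620.RIM Cfsg.Agent.H243.RIM

universe u

/-- centralizers and normalizers of elements of prime order, transported -/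
theorem cn_of {K S : Type*} [Group K] [Finite K] [Group S] (e : K ≃* S) {r c n : ℕ}
    (h : ∀ R : Subgroup S, Nat.card R = r → Nat.card (centralizer (R : Set S)) = c ∧
      Nat.card (normalizer (R : Set S)) = n) {y : K} (hy : orderOf y = r) :
    Nat.card (centralizer ({y} : Set K)) = c ∧ Nat.card (normalizer ((zpowers y : Subgroup K) : Set K)) = n := by
  have h1 : orderOf (e y) = r := by rw [← hy]; exact orderOf_injective e.toMonoidHom e.injective y
  have h2 : Nat.card (zpowers (e y)) = r := by rw [Nat.card_zpowers, h1]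
  obtain ⟨h3, h4⟩ := h _ h2
  have : Finite S := Finite.of_equiv K e.toEquiv
  rw [Cfsg.Agent.H243.RIM.centralizer_zpowers, card_centralizer_congr e y] at h3
  rw [card_normalizer_congr e y] at h4
  exact ⟨h3, h4⟩

/-- the six classes -/
theorem exists_six {K : Type u} [Group K] [Finite K] (h : Spor.IsoM22 K) (m : ℕ) (hm : m ∣ 12) :
    ∃ F : Finset (ConjClasses K), F.card = 6 ∧ ∀ C ∈ F, ∃ g : K, ConjClasses.mk g = C ∧ MGood m g := by
  obtain ⟨e⟩ := h
  have hc : Nat.card K = 443520 := by
    rw [Nat.card_congr e.toEquiv]; exact Cfsg.Agent.H715.Fpr.MathData.card22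
  have : Fact (Nat.Prime 5) := ⟨by norm_num⟩
  have : Fact (Nat.Prime 7) := ⟨by norm_num⟩
  have : Fact (Nat.Prime 11) := ⟨by norm_num⟩
  obtain ⟨a, ha⟩ := exists_prime_orderOf_dvd_card' (G := K) 5 (by rw [hc]; norm_num)
  obtain ⟨b, hb⟩ := exists_prime_orderOf_dvd_card' (G := K) 7 (by rw [hc]; norm_num)
  obtain ⟨c, hc'⟩ := exists_prime_orderOf_dvd_card' (G := K) 11 (by rw [hc]; norm_num)
  obtain ⟨b1, b2⟩ := cn_of e (fun R hR => Cfsg.Agent.H715.Fpr.MathData.cn22_7 hR) hb
  obtain ⟨c1, c2⟩ := cn_of e (fun R hR => Cfsg.Agent.H715.Fpr.MathData.cn22_11 hR) hc'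
  have ob : orderOf (b ^ 6) = 7 := by
    rw [orderOf_pow, hb]; norm_num
  have oc : orderOf (c ^ 10) = 11 := by
    rw [orderOf_pow, hc']; norm_num
  have hord : ∀ {x y : K}, IsConj x y → orderOf x = orderOf y := by
    intro x y hxy
    obtain ⟨g, hg⟩ := isConj_iff.1 hxy
    rw [← hg]
    exact (orderOf_injective (MulAut.conj g).toMonoidHom (MulAut.conj g).injective x).symm
  have nb : ¬ IsConj b (b ^ 6) := by
    intro hcon
    obtain ⟨g, hg⟩ := isConj_iff.1 hcon
    have := pow_w (w := 3) hb (by rw [b2, b1]) (g := g) (i := 1) (j := 6) (by norm_num) (by rw [pow_one]; exact hg)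
    norm_num at this
  have nc : ¬ IsConj c (c ^ 10) := by
    intro hcon
    obtain ⟨g, hg⟩ := isConj_iff.1 hcon
    have := pow_w (w := 5) hc' (by rw [c2, c1]) (g := g) (i := 1) (j := 10) (by norm_num) (by rw [pow_one]; exact hg)
    norm_num at this
  refine exists_finset (MGood m) [1, a, b, b ^ 6, c, c ^ 10] ?_ ?_
  · have key : ∀ {x y : K} {i j : ℕ}, orderOf x = i → orderOf y = j → i ≠ j → ¬ IsConj x y := by
      intro x y i j hi hj hij hcon
      exact hij (hi ▸ hj ▸ hord hcon)
    refine List.pairwise_cons.2 ⟨?_, List.pairwise_cons.2 ⟨?_, List.pairwise_cons.2 ⟨?_, List.pairwise_cons.2 ⟨?_,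
      List.pairwise_cons.2 ⟨?_, List.pairwise_cons.2 ⟨?_, List.Pairwise.nil⟩⟩⟩⟩⟩⟩
    · intro x hx
      simp only [List.mem_cons, List.not_mem_nil, or_false] at hx
      rcases hx with rfl | rfl | rfl | rfl | rfl
      · exact key orderOf_one ha (by norm_num)
      · exact key orderOf_one hb (by norm_num)
      · exact key orderOf_one ob (by norm_num)
      · exact key orderOf_one hc' (by norm_num)
      · exact key orderOf_one oc (by norm_num)
    · intro x hx
      simp only [List.mem_cons, List.not_mem_nil, or_false] at hx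
      rcases hx with rfl | rfl | rfl | rfl
      · exact key ha hb (by norm_num)
      · exact key ha ob (by norm_num)
      · exact key ha hc' (by norm_num)
      · exact key ha oc (by norm_num)
    · intro x hx
      simp only [List.mem_cons, List.not_mem_nil, or_false] at hx
      rcases hx with rfl | rfl | rfl
      · exact nb
      · exact key hb hc' (by norm_num)
      · exact key hb oc (by norm_num)
    · intro x hx
      simp only [List.mem_cons, List.not_mem_nil, or_false] at hx
      rcases hx with rfl | rfl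
      · exact key ob hc' (by norm_num)
      · exact key ob oc (by norm_num)
    · intro x hx
      simp only [List.mem_cons, List.not_mem_nil, or_false] at hx
      rw [hx]
      exact nc
    · intro x hx
      exact absurd hx List.not_mem_nil
  · intro g hg
    have key : ∀ {x : K} {i : ℕ}, orderOf x = i → i.Coprime 12 → MGood m x := fun {x i} hi hco =>
      mGood_of_coprime (by rw [hi]; exact Nat.Coprime.coprime_dvd_right hm hco)
    simp only [List.mem_cons, List.not_mem_nil, or_false] at hg
    rcases hg with rfl | rfl | rfl | rfl | rfl | rfl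
    · exact key orderOf_one (by norm_num)
    · exact key ha (by norm_num)
    · exact key hb (by norm_num)
    · exact key ob (by norm_num)
    · exact key hc' (by norm_num)
    · exact key oc (by norm_num)

theorem nball_five {K : Type u} [Group K] [Finite K] (h : Spor.IsoM22 K) : NBall.{u} 5 K := by
  have : Fact (Nat.Prime 5) := ⟨by norm_num⟩
  have hc : Nat.card K = 443520 := by
    obtain ⟨e⟩ := h
    rw [Nat.card_congr e.toEquiv]; exact Cfsg.Agent.H715.Fpr.MathData.card22
  refine nball_of_mdvd (dvd_m22 h) fun m hm _ hpm => ?_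
  obtain ⟨F, hF, hF'⟩ := exists_six h m hm
  obtain ⟨y, hy⟩ := exists_prime_orderOf_dvd_card' (G := K) 5 (by rw [hc]; norm_num)
  obtain ⟨e⟩ := h
  obtain ⟨h1, h2⟩ := cn_of e (fun R hR => Cfsg.Agent.H715.Fpr.MathData.cn22_5 hR) hy
  exact nb_of_dz_self (by norm_num) hpm (by rw [hc]; norm_num) hy (w := 4) h1 (by rw [h2]) F hF'
    (by rw [hF]; norm_num)

theorem nball_seven {K : Type u} [Group K] [Finite K] (h : Spor.IsoM22 K) : NBall.{u} 7 K := by
  have : Fact (Nat.Prime 7) := ⟨by norm_num⟩
  have hc : Nat.card K = 443520 := by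
    obtain ⟨e⟩ := h
    rw [Nat.card_congr e.toEquiv]; exact Cfsg.Agent.H715.Fpr.MathData.card22
  refine nball_of_mdvd (dvd_m22 h) fun m hm _ hpm => ?_
  obtain ⟨F, hF, hF'⟩ := exists_six h m hm
  obtain ⟨y, hy⟩ := exists_prime_orderOf_dvd_card' (G := K) 7 (by rw [hc]; norm_num)
  obtain ⟨e⟩ := h
  obtain ⟨h1, h2⟩ := cn_of e (fun R hR => Cfsg.Agent.H715.Fpr.MathData.cn22_7 hR) hy
  exact nb_of_dz_self (by norm_num) hpm (by rw [hc]; norm_num) hy (w := 3) h1 (by rw [h2]) F hF'
    (by rw [hF]; norm_num)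

end Cfsg.Agent.H483.RIM
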