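import Cfsg.Agent.H483.RIM.MParity
import Cfsg.Agent.H483.RIM.M22
import Cfsg.Agent.H968.TwoM22Fact

/-!
# S4816: `NBall 3` for `M22` (helper483)

* `isConj_of_card` : `|N(⟨y⟩)| = (p - 1) |C(y)|`, `y` of order `p`: `y` is rational;
* `fourD_of` : a four-group with an element of order 3 acting, from generators and relations;
* `nball_three` : `NBall 3 M22`, by `nb_three_of_par`.
-/

set_option autoImplicit false
set_option linter.unusedSectionVars false

namespace Cfsg.Agent.H483.RIM

open Cfsg Subgroup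
open Cfsg.Agent.H665.RIM Cfsg.Agent.H620.RIM

universe u

/-- `y` is conjugate to its powers. -/
theorem isConj_of_card {G : Type*} [Group G] [Finite G] {p : ℕ} (hp : p.Prime) {y : G} (hy : orderOf y = p)
    (h : Nat.card (normalizer ((zpowers y : Subgroup G) : Set G)) = (p - 1) * Nat.card (centralizer ({y} : Set G)))
    {k : ℕ} (hk : k.Coprime p) : IsConj (y ^ k) y := by
  have hpf : Fact p.Prime := ⟨hp⟩
  set Q : Subgroup G := zpowers y with hQ
  have hQc : Nat.card Q = p := by rw [hQ, Nat.card_zpowers, hy]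
  have : IsCyclic Q := isCyclic_of_prime_card hQc
  have hH : centralizer ({y} : Set G) = centralizer (Q : Set G) := by
    rw [hQ, zpowers_eq_closure, centralizer_closure]
  have hle : centralizer (Q : Set G) ≤ normalizer (Q : Set G) := centralizer_le_normalizer _
  have hker : (normalizerMonoidHom Q).ker = (centralizer (Q : Set G)).subgroupOf (normalizer (Q : Set G)) :=
    normalizerMonoidHom_ker Q
  have h1 := (normalizerMonoidHom Q).ker.card_mul_index
  rw [Subgroup.index_ker, hker, Nat.card_congr (subgroupOfEquivOfLe hle).toEquiv, ← hH, h, mul_comm] at h1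
  have h2 : Nat.card (normalizerMonoidHom Q).range = p - 1 := Nat.eq_of_mul_eq_mul_right Nat.card_pos h1
  have h3 : (normalizerMonoidHom Q).range = ⊤ := by
    have hfin : Finite (MulAut Q) := inferInstance
    apply Subgroup.eq_top_of_card_eq
    rw [h2, IsCyclic.card_mulAut, hQc, Nat.totient_prime hp]
  -- the power map
  have hcomm : ∀ a b : Q, a * b = b * a := fun a b => (IsCyclic.isMulCommutative (α := Q)).is_comm.comm a b
  let f : Q →* Q :=
    { toFun := fun a => a ^ k
      map_one' := one_pow k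
      map_mul' := fun a b => (show Commute a b from hcomm a b).mul_pow k }
  have hf : Function.Bijective f := by
    have : Function.Injective f := by
      rw [injective_iff_map_eq_one]
      intro a ha
      have h4 : a ^ k = 1 := ha
      have h5 : orderOf a ∣ k := orderOf_dvd_of_pow_eq_one h4
      have h6 : orderOf a ∣ p := hQc ▸ _root_.orderOf_dvd_natCard a
      exact orderOf_eq_one_iff.1 (Nat.eq_one_of_dvd_coprimes hk h5 h6)
    exact ⟨this, Finite.surjective_of_injective this⟩
  have h4 : MulEquiv.ofBijective f hf ∈ (normalizerMonoidHom Q).range := by rw [h3]; trivial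
  obtain ⟨n, hn⟩ := h4
  have h5 : ((normalizerMonoidHom Q n) ⟨y, mem_zpowers y⟩ : G) = (n : G) * y * (n : G)⁻¹ := rfl
  have h6 : ((MulEquiv.ofBijective f hf) ⟨y, mem_zpowers y⟩ : G) = y ^ k := rfl
  rw [hn, h6] at h5
  exact (isConj_iff.2 (⟨(n : G), h5.symm⟩ : ∃ c : G, c * y * c⁻¹ = y ^ k)).symm

/-- A four-group with an element of order 3 acting. -/
theorem fourD_of {S : Type u} [Group S] {v w d : S} (hv : v * v = 1) (hw : w * w = 1) (hvw : v * w = w * v)
    (hdv : d * v = w * d) (hdw : d * w = v * w * d) (hd : d ^ 3 = 1) (hv1 : v ≠ 1) (hne : v ≠ w) :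
    ∃ V : Subgroup S, FourD V d ∧ ∀ u ∈ V, u = 1 ∨ u = v ∨ u = w ∨ u = v * w := by
  classical
  have hw1 : w ≠ 1 := by
    rintro rfl
    rw [one_mul, mul_eq_left] at hdv
    exact hv1 hdv
  have hvw1 : v * w ≠ 1 := by
    intro h
    apply hne
    calc v = v * (w * w) := by rw [hw, mul_one]
      _ = w := by rw [← mul_assoc, h, one_mul]
  have hvi : v⁻¹ = v := inv_eq_of_mul_eq_one_right hv
  have hwi : w⁻¹ = w := inv_eq_of_mul_eq_one_right hw
  have r1 : v * (v * w) = w := by rw [← mul_assoc, hv, one_mul]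
  have r2 : w * (v * w) = v := by rw [hvw, ← mul_assoc, hw, one_mul]
  have r3 : v * w * v = w := by rw [hvw, mul_assoc, hv, mul_one]
  have r4 : v * w * w = v := by rw [mul_assoc, hw, mul_one]
  have r5 : v * w * (v * w) = 1 := by rw [mul_assoc, r2, hv]
  let V : Subgroup S :=
    { carrier := {u | u = 1 ∨ u = v ∨ u = w ∨ u = v * w}
      one_mem' := Or.inl rfl
      mul_mem' := by
        rintro a b (rfl | rfl | rfl | rfl) (rfl | rfl | rfl | rfl)
        · exact Or.inl (one_mul 1)
        · exact Or.inr (Or.inl (one_mul _))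
        · exact Or.inr (Or.inr (Or.inl (one_mul _)))
        · exact Or.inr (Or.inr (Or.inr (one_mul _)))
        · exact Or.inr (Or.inl (mul_one _))
        · exact Or.inl hv
        · exact Or.inr (Or.inr (Or.inr rfl))
        · exact Or.inr (Or.inr (Or.inl r1))
        · exact Or.inr (Or.inr (Or.inl (mul_one _)))
        · exact Or.inr (Or.inr (Or.inr hvw.symm))
        · exact Or.inl hw
        · exact Or.inr (Or.inl r2)
        · exact Or.inr (Or.inr (Or.inr (mul_one _)))
        · exact Or.inr (Or.inr (Or.inl r3))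
        · exact Or.inr (Or.inl r4)
        · exact Or.inl r5
      inv_mem' := by
        rintro a (rfl | rfl | rfl | rfl)
        · exact Or.inl inv_one
        · exact Or.inr (Or.inl hvi)
        · exact Or.inr (Or.inr (Or.inl hwi))
        · exact Or.inr (Or.inr (Or.inr (by rw [mul_inv_rev, hvi, hwi, hvw]))) }
  have hmem : ∀ u, u ∈ V ↔ u = 1 ∨ u = v ∨ u = w ∨ u = v * w := fun u => Iff.rfl
  refine ⟨V, ⟨?_, hd, ?_, v, (hmem v).2 (Or.inr (Or.inl rfl)), ?_⟩, fun u hu => (hmem u).1 hu⟩
  · have h1 : Nat.card V = Nat.card (({1, v, w, v * w} : Finset S) : Set S) := by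
      refine Nat.card_congr (Equiv.subtypeEquivRight fun u => ?_)
      rw [hmem]
      simp
    rw [h1, Nat.card_coe_set_eq, Set.ncard_coe_finset, Finset.card_insert_of_notMem, Finset.card_insert_of_notMem,
      Finset.card_insert_of_notMem, Finset.card_singleton]
    · simp only [Finset.mem_singleton]
      intro h
      exact hv1 (mul_eq_right.1 h.symm)
    · simp only [Finset.mem_insert, Finset.mem_singleton, not_or]
      exact ⟨hne, fun h => hw1 (mul_eq_left.1 h.symm)⟩
    · simp only [Finset.mem_insert, Finset.mem_singleton, not_or]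
      exact ⟨hv1.symm, hw1.symm, hvw1.symm⟩
  · intro u hu
    have a1 : d * v * d⁻¹ = w := by rw [hdv, mul_inv_cancel_right]
    have a2 : d * w * d⁻¹ = v * w := by rw [hdw, mul_inv_cancel_right]
    rcases (hmem u).1 hu with rfl | rfl | rfl | rfl
    · rw [mul_one, mul_inv_cancel]; exact V.one_mem
    · rw [a1]; exact (hmem _).2 (Or.inr (Or.inr (Or.inl rfl)))
    · rw [a2]; exact (hmem _).2 (Or.inr (Or.inr (Or.inr rfl)))
    · have a3 : d * (v * w) * d⁻¹ = (d * v * d⁻¹) * (d * w * d⁻¹) := by group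
      rw [a3, a1, a2, r2]
      exact (hmem _).2 (Or.inr (Or.inl rfl))
  · intro h
    rw [hdv] at h
    exact hne (mul_right_cancel h).symm

/-! ### the elements of `M22` -/

section data

open Cfsg.Agent.SporadicA.GolayBase Cfsg.Agent.SporadicA.GolayPerm
open Cfsg.Agent.SporadicStructure.M24El Cfsg.Agent.H729.Trans Cfsg.Agent.H729.MData Cfsg.Agent.H729.Count
open Cfsg.Agent.H729.M24Deg Cfsg.Agent.H729.M22Deg Cfsg.Agent.H968.TwoTool
open Cfsg.Agent.H968.TwoM22

def cv : ℕ := 972486218560885713323351588958472320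
def cu : ℕ := 965184705072396111903715095795042560

theorem ok_v : ok cv = true := by decide +kernel
theorem ok_u : ok cu = true := by decide +kernel

theorem r1 : Nat.beq (pcomp cv cs) (pcomp cs cv) = true := by decide +kernel
theorem r2 : Nat.beq (pcomp cu cs) (pcomp cs cu) = true := by decide +kernel
theorem r3 : Nat.beq (pcomp cv cu) (pcomp cu cv) = true := by decide +kernel
theorem r4 : Nat.beq (pcomp ct cv) (pcomp cu ct) = true := by decide +kernel
theorem r5 : Nat.beq (pcomp ct cu) (pcomp (pcomp cv cu) ct) = true := by decide +kernel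
theorem r6 : Nat.beq (pcomp cv cv) idP = true := by decide +kernel
theorem r7 : Nat.beq (pcomp cu cu) idP = true := by decide +kernel
theorem r8 : Nat.beq (pcomp ct cs) (pcomp cs ct) = true := by decide +kernel

/-- The elements used. -/
structure Four (K : Type*) [Group K] : Prop where
  card : Nat.card K = 443520
  ex : ∃ s t v w : K, orderOf s = 3 ∧ Nat.card (centralizer ({s} : Set K)) = 36 ∧
    (∀ x : K, orderOf x = 3 → IsConj s x) ∧ v * v = 1 ∧ w * w = 1 ∧ v * w = w * v ∧ t * v = w * t ∧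
      t * w = v * w * t ∧ t ^ 3 = 1 ∧ v ≠ 1 ∧ v ≠ w ∧ v * s = s * v ∧ w * s = s * w ∧ t * s = s * t

theorem Four.congr {K L : Type*} [Group K] [Group L] (e : K ≃* L) (h : Four K) : Four L := by
  obtain ⟨h1, s, t, v, w, a1, a2, a3, a4, a5, a6, a7, a8, a9, a10, a11, a12, a13, a14⟩ := h
  refine ⟨by rw [← Nat.card_congr e.toEquiv, h1], e s, e t, e v, e w, by rw [MulEquiv.orderOf_eq, a1],
    by rw [← card_cent_congr e, a2], ?_, by rw [← map_mul, a4, map_one], by rw [← map_mul, a5, map_one],
    by rw [← map_mul, a6, map_mul], by rw [← map_mul, a7, map_mul], by rw [← map_mul, ← map_mul, ← map_mul, a8],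
    by rw [← map_pow, a9, map_one], by rwa [Ne, MulEquiv.map_eq_one_iff], fun h => a11 (e.injective h),
    by rw [← map_mul, a12, map_mul], by rw [← map_mul, a13, map_mul], by rw [← map_mul, a14, map_mul]⟩
  intro z hz
  have h2 := a3 (e.symm z) (by rw [MulEquiv.orderOf_eq, hz])
  obtain ⟨c, hc⟩ := isConj_iff.1 h2
  refine isConj_iff.2 ⟨e c, ?_⟩
  rw [← map_mul, ← map_inv, ← map_mul, hc, MulEquiv.apply_symm_apply]

theorem el_ne {P Q : ℕ} (hP : ok P = true) (hQ : ok Q = true) {k : ℕ} (hk : k < 24) (h : papp P k ≠ papp Q k) :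
    el P ≠ el Q := by
  intro he
  apply h
  have h1 := idx_el_smul hP (pt k)
  have h2 := idx_el_smul hQ (pt k)
  rw [idx_pt hk] at h1 h2
  rw [← h1, ← h2, he]

theorem four : Four Spor.M22 := by
  have hfin : Finite Spor.M22 := Nat.finite_of_card_ne_zero (by rw [three.card]; norm_num)
  obtain ⟨s, hs⟩ := exists_el ok_s (by decide +kernel) (by decide +kernel)
  obtain ⟨t, ht⟩ := exists_el ok_t (by decide +kernel) (by decide +kernel)
  obtain ⟨v, hv⟩ := exists_el ok_v (by decide +kernel) (by decide +kernel)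
  obtain ⟨w, hw⟩ := exists_el ok_u (by decide +kernel) (by decide +kernel)
  have hos : orderOf s = 3 := by rw [← orderOf_inc, hs, os]
  have hot : orderOf t = 3 := by rw [← orderOf_inc, ht, ot]
  have hs3 : s ^ 3 = 1 := by rw [← hos]; exact pow_orderOf_eq_one s
  have ht3 : t ^ 3 = 1 := by rw [← hot]; exact pow_orderOf_eq_one t
  refine ⟨three.card, s, t, v, w, hos, cent_s hs, ?_, ?_, ?_, ?_, ?_, ?_, ht3, ?_, ?_, ?_, ?_, ?_⟩
  · intro x hx
    obtain ⟨s', -, -, h1, -, -, -, -, h2, -, -⟩ := three.three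
    exact (h2 s hos).symm.trans (h2 x hx)
  · apply inc_eq
    rw [map_mul, hv, ← el_pcomp ok_v ok_v, Nat.eq_of_beq_eq_true r6, el_idP, map_one]
  · apply inc_eq
    rw [map_mul, hw, ← el_pcomp ok_u ok_u, Nat.eq_of_beq_eq_true r7, el_idP, map_one]
  · apply inc_eq
    rw [map_mul, map_mul, hv, hw, ← el_pcomp ok_v ok_u, ← el_pcomp ok_u ok_v, Nat.eq_of_beq_eq_true r3]
  · apply inc_eq
    rw [map_mul, map_mul, hv, hw, ht, ← el_pcomp ok_t ok_v, ← el_pcomp ok_u ok_t, Nat.eq_of_beq_eq_true r4]
  · apply inc_eq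
    rw [map_mul, map_mul, map_mul, hv, hw, ht, ← el_pcomp ok_t ok_u, ← el_pcomp ok_v ok_u,
      ← el_pcomp (ok_pcomp ok_v ok_u) ok_t, Nat.eq_of_beq_eq_true r5]
  · intro h
    have h1 : el cv = el idP := by rw [← hv, h, map_one, el_idP]
    exact el_ne ok_v ok_idP (k := 1) (by norm_num) (by decide +kernel) h1
  · intro h
    have h1 : el cv = el cu := by rw [← hv, h, hw]
    exact el_ne ok_v ok_u (k := 1) (by norm_num) (by decide +kernel) h1
  · apply inc_eq
    rw [map_mul, map_mul, hv, hs, ← el_pcomp ok_v ok_s, ← el_pcomp ok_s ok_v, Nat.eq_of_beq_eq_true r1]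
  · apply inc_eq
    rw [map_mul, map_mul, hw, hs, ← el_pcomp ok_u ok_s, ← el_pcomp ok_s ok_u, Nat.eq_of_beq_eq_true r2]
  · apply inc_eq
    rw [map_mul, map_mul, ht, hs, ← el_pcomp ok_t ok_s, ← el_pcomp ok_s ok_t, Nat.eq_of_beq_eq_true r8]

end data

/-- **`NBall 3` for `M22`.** -/
theorem nball_three {K : Type u} [Group K] [Finite K] (h : Spor.IsoM22 K) : NBall.{u} 3 K := by
  classical
  refine nball_of_mdvd (dvd_m22 h) fun m hm _ hpm => ?_
  have hm4 : m ∣ 4 := by
    have h1 : m.Coprime 3 := ((Nat.prime_three.coprime_iff_not_dvd).2 hpm).symm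
    exact h1.dvd_of_dvd_mul_left (by simpa using hm)
  have : Fact (Nat.Prime 5) := ⟨by norm_num⟩
  obtain ⟨F, hF, hF'⟩ := exists_six h 12 dvd_rfl
  obtain ⟨e⟩ := h
  obtain ⟨hc, s, t, v, w, a1, a2, a3, a4, a5, a6, a7, a8, a9, a10, a11, a12, a13, a14⟩ := four.congr e.symm
  obtain ⟨V, hV, hVm⟩ := fourD_of a4 a5 a6 a7 a8 a9 a10 a11
  obtain ⟨y, hy⟩ := exists_prime_orderOf_dvd_card' (G := K) 5 (by rw [hc]; norm_num)
  obtain ⟨h1, h2⟩ := cn_of e (fun R hR => Cfsg.Agent.H715.Fpr.MathData.cn22_5 hR) hy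
  -- the classes
  have hsF : ConjClasses.mk s ∉ F := by
    intro hmem
    obtain ⟨g, hg, hgood⟩ := hF' _ hmem
    obtain ⟨c, rfl⟩ := isConj_iff.1 (ConjClasses.mk_eq_mk_iff_isConj.1 hg).symm
    have ho : orderOf (c * s * c⁻¹) = 3 := by
      rw [← a1]
      exact orderOf_injective (MulAut.conj c).toMonoidHom (MulAut.conj c).injective s
    have hcc : Nat.card (centralizer ({c * s * c⁻¹} : Set K)) = 36 := by
      rw [← a2]
      exact card_centralizer_congr (MulAut.conj c) s
    rcases hgood 3 Nat.prime_three (by norm_num) with h3 | h3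
    · rw [ho] at h3
      exact h3 dvd_rfl
    · rw [ho, hcc] at h3
      exact h3 (by norm_num)
  refine nb_three_of_par hpm a1 a2 hV (x := s) ?_ a14 ?_ (q := 5) (by norm_num) (by norm_num) ?_ hy ?_ ?_
    (insert (ConjClasses.mk s) F) ?_ (by rw [Finset.card_insert_of_notMem hsF, hF])
  · intro u hu
    rcases hVm u hu with rfl | rfl | rfl | rfl
    · rw [one_mul, mul_one]
    · exact a12
    · exact a13
    · rw [mul_assoc, a13, ← mul_assoc, a12, mul_assoc]
  · intro k hk
    refine (a3 _ ?_).symm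
    rw [Nat.Coprime.orderOf_pow, a1]
    rw [a1]
    exact hk.symm
  · intro h5
    have := h5.trans hm4
    revert this; norm_num
  · rw [h1]
    exact ⟨2, rfl⟩
  · exact fun k hk => isConj_of_card (by norm_num) hy (by rw [h2, h1]) hk
  · intro C hC
    rcases Finset.mem_insert.1 hC with rfl | hC
    · refine ⟨s, rfl, mGood_of_coprime ?_⟩
      rw [a1]
      exact (Nat.prime_three.coprime_iff_not_dvd).2 hpm
    · obtain ⟨g, hg, hgood⟩ := hF' C hC
      exact ⟨g, hg, fun r hr hrm => hgood r hr (hrm.trans hm)⟩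

end Cfsg.Agent.H483.RIM
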